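import Groth.Agent.DCat.ClosedPush
import Groth.Agent.RelVALib.AffBaseChange
import Groth.Agent.Inters29.Length
import Groth.Agent.Surf15.IntPush

/-!
# `O/I ⊗ O/J = O/(I ⊔ J)`
-/

set_option autoImplicit false
set_option linter.style.haveILetI false
set_option backward.isDefEq.respectTransparency.types false

universe u

open CategoryTheory CategoryTheory.Limits AlgebraicGeometry Opposite TopologicalSpace
open Groth.Agent.DCat Groth.Agent.Coherent Groth.Agent.PicLib

namespace Groth.Agent.IntCM8

variable {X : Scheme.{u}}

/-- Tensoring quotients by ideals adds the ideals. -/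
theorem nonempty_quotMod_tensor (I J : X.IdealSheafData) :
    Nonempty (CohB1.tensorMod (ClSub.quotMod I) (ClSub.quotMod J) ≅ ClSub.quotMod (I ⊔ J)) := by
  let i := I.subschemeι
  let j := J.subschemeι
  let O := Coh.structureModule I.subscheme
  let N := ClSub.quotMod J
  let a := pullback.fst i j
  let b := pullback.snd i j
  have sq : IsPullback b a j i := (IsPullback.of_hasPullback i j).flip
  haveI : Coh.IsQCoh (Coh.structureModule J.subscheme) := Coherent.isQCoh_structureModule
  haveI := RelVALib.isIso_bcHom sq (Coh.structureModule J.subscheme)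
  let e1 : CohB1.tensorMod (ClSub.quotMod I) N ≅
      (Scheme.Modules.pushforward i).obj (CohB1.tensorMod O ((Scheme.Modules.pullback i).obj N)) :=
    @asIso _ _ _ _ (ClosedPush.projMap i O N) (ClosedPush.isIso_projMap i O N)
  let e2 : CohB1.tensorMod O ((Scheme.Modules.pullback i).obj N) ≅ (Scheme.Modules.pullback i).obj N :=
    AmpleLib.unitTensorIso _
  let e3 : (Scheme.Modules.pullback i).obj N ≅
      (Scheme.Modules.pushforward a).obj ((Scheme.Modules.pullback b).obj (Coh.structureModule J.subscheme)) :=
    asIso (RelVALib.bcHom sq (Coh.structureModule J.subscheme))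
  obtain ⟨e4⟩ := Surf15.nonempty_push_iso_quotMod (a ≫ i)
  haveI : IsIso (unitDesc ((Scheme.Modules.pullback b).obj (Coh.structureModule J.subscheme))
      (pullSec b (AmpleLib.oneSec (⊤ : J.subscheme.Opens)))) := isIso_of_isGen _ (by
    rw [unitVal_unitDesc, resM_self]
    exact isGen_pullSec b (AmpleLib.isGen_oneSec ⊤) AmpleLib.isInvertible_structureModule)
  let e5 : (Scheme.Modules.pullback b).obj (Coh.structureModule J.subscheme) ≅ Coh.structureModule (pullback i j) :=
    (asIso (unitDesc _ (pullSec b (AmpleLib.oneSec (⊤ : J.subscheme.Opens))))).symm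
  have hker : (a ≫ i).ker = I ⊔ J := by
    rw [← Scheme.IdealSheafData.map_ker, show a.ker = J.comap i from rfl, Inters29.map_comap_eq_sup,
      show i.ker = I from Scheme.IdealSheafData.ker_subschemeι I, sup_comm]
  exact ⟨e1 ≪≫ (Scheme.Modules.pushforward i).mapIso
      (e2 ≪≫ e3 ≪≫ (Scheme.Modules.pushforward a).mapIso e5) ≪≫
    (Scheme.Modules.pushforwardComp a i).app _ ≪≫ e4 ≪≫ eqToIso (congrArg ClSub.quotMod hker)⟩

end Groth.Agent.IntCM8
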